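import Groth.Agent.DvrDom.Basic
import Groth.Agent.HensGRingLib.J2
import Mathlib.RingTheory.DedekindDomain.IntegralClosure
import Mathlib.RingTheory.DiscreteValuationRing.TFAE
import Mathlib.FieldTheory.IsAlgClosed.Basic

/-!
# Finiteness of the algebraic closure of the fraction field of a henselian DVR in a residue field

If `V` is a henselian discrete valuation ring of characteristic zero with algebraically closed residue field and `F`
is the fraction field of a quotient of a Noetherian local `V`-algebra `B` dominating `V`, then the algebraic closure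
of `K = Frac V` in `F` is finite over `K`: its degree is bounded by the ramification of a discrete valuation ring of
`F` dominating `B`.
-/

set_option autoImplicit false
set_option linter.style.haveILetI false

universe u

open IsLocalRing

noncomputable section

namespace MilnorFibLib

/-- If `V` is a henselian DVR with algebraically closed residue field, a finite separable extension of its fraction
field inside the fraction field of a DVR `O` dominating `V` has degree at most the valuation of a uniformizer. -/
theorem finrank_le_of_dvr (V : Type u) [CommRing V] [IsDomain V] [IsDiscreteValuationRing V] [HenselianLocalRing V]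
    [IsAlgClosed (ResidueField V)] (K : Type u) [Field K] [Algebra V K] [IsFractionRing V K]
    (E : Type u) [Field E] [Algebra K E] [Algebra V E] [IsScalarTower V K E] [FiniteDimensional K E]
    [Algebra.IsSeparable K E] {F : Type u} [Field F] [Algebra V F] (O : ValuationSubring F)
    [IsDiscreteValuationRing O] (f : E →ₐ[V] F) (g : V →+* O) (hg : ∀ v, (g v : F) = algebraMap V F v)
    (π : V) (hπ : Irreducible π) {t : O} (ht : Irreducible t) {e : ℕ} (hte : Associated (g π) (t ^ e))
    (he : e ≠ 0) : Module.finrank K E ≤ e := by
  classical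
  haveI : Module.IsTorsionFree V E := .trans_faithfulSMul V K E
  let W := integralClosure V E
  haveI : Module.Finite V W := IsIntegralClosure.finite V K E W
  haveI : IsLocalRing W := HensGRingLib.isLocalRing_of_finite_domain V W
  haveI : IsDedekindDomain W := IsIntegralClosure.isDedekindDomain V K E W
  letI algO : Algebra V O := g.toAlgebra
  haveI : IsScalarTower V O F := IsScalarTower.of_algebraMap_eq fun v => (hg v).symm
  have hmem : ∀ w : W, f (w : E) ∈ O := fun w => by
    have hint : IsIntegral V (f (w : E)) := (show IsIntegral V (w : E) from w.2).map f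
    obtain ⟨y, hy⟩ := IsIntegrallyClosed.isIntegral_iff.mp (hint.tower_top (A := O))
    exact hy ▸ y.2
  let h : W →+* O := (f.toRingHom.comp W.val.toRingHom).codRestrict O.toSubring hmem
  have hh : ∀ v, h (algebraMap V W v) = g v := fun v => Subtype.ext ((f.commutes v).trans (hg v).symm)
  have hgπ : ¬ IsUnit (g π) := fun hu => ht.not_isUnit ((isUnit_pow_iff he).mp (hte.isUnit hu))
  have hπW : ¬ IsUnit (algebraMap V W π) := fun hu => hgπ (hh π ▸ hu.map h)
  have hπ0 : algebraMap V W π ≠ 0 := fun h0 => hπ.ne_zero (by
    apply IsFractionRing.injective V K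
    apply (algebraMap K E).injective
    simp only [← IsScalarTower.algebraMap_apply, map_zero]
    exact congrArg Subtype.val h0)
  have hnf : ¬ IsField W := fun hF => hπW (by
    obtain ⟨b, hb⟩ := hF.mul_inv_cancel hπ0
    exact IsUnit.of_mul_eq_one b hb)
  have hiff : IsDiscreteValuationRing W ↔ IsDedekindDomain W := (IsDiscreteValuationRing.TFAE W hnf).out 0 2
  haveI : IsDiscreteValuationRing W := hiff.mpr inferInstance
  obtain ⟨ϖ, hϖ⟩ := IsDiscreteValuationRing.exists_irreducible W
  obtain ⟨ε, hε⟩ := IsDiscreteValuationRing.associated_pow_irreducible hπ0 hϖ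
  -- `ε ≤ e`
  have hεe : ε ≤ e := by
    have hle : t ∣ h ϖ := by
      by_contra hnd
      have hu : IsUnit (h ϖ) := by
        by_contra hu
        exact hnd (Ideal.mem_span_singleton.mp (ht.maximalIdeal_eq ▸ hu))
      exact hgπ (hh π ▸ (hε.map h).symm.isUnit (by rw [map_pow]; exact hu.pow ε))
    have h1 : t ^ ε ∣ g π := by
      rw [← hh π]
      exact dvd_trans (by rw [map_pow]; exact pow_dvd_pow_of_dvd hle ε) (hε.map h).symm.dvd
    exact (pow_dvd_pow_iff ht.ne_zero ht.not_isUnit).mp (h1.trans hte.dvd)
  -- `V` surjects onto the residue field of `W`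
  haveI : IsLocalHom (algebraMap V W) := by
    refine ⟨fun v hv => ?_⟩
    by_contra hvu
    have : v ∈ Ideal.span {π} := hπ.maximalIdeal_eq ▸ hvu
    obtain ⟨c, rfl⟩ := Ideal.mem_span_singleton.mp this
    exact hπW (isUnit_of_mul_isUnit_left (map_mul (algebraMap V W) π c ▸ hv))
  haveI : Module.Finite (ResidueField V) (ResidueField W) := inferInstance
  have hres : ∀ w : W, ∃ v : V, ϖ ∣ w - algebraMap V W v := fun w => by
    obtain ⟨c, hc⟩ := (IsAlgClosed.algebraMap_bijective_of_isIntegral (k := ResidueField V)
      (K := ResidueField W)).2 (residue W w)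
    obtain ⟨v, rfl⟩ := residue_surjective c
    refine ⟨v, Ideal.mem_span_singleton.mp (hϖ.maximalIdeal_eq ▸ ?_)⟩
    rw [← IsLocalRing.residue_eq_zero_iff, map_sub, sub_eq_zero, ← hc]
    rfl
  -- `W` is spanned by the powers of `ϖ` below `ε`
  have hspan : ∀ n (w : W), ∃ p ∈ Submodule.span V (Set.range fun i : Fin n => ϖ ^ (i : ℕ)), ϖ ^ n ∣ w - p := by
    intro n
    induction n with
    | zero => exact fun w => ⟨0, zero_mem _, by simp⟩
    | succ n ih =>
      intro w
      obtain ⟨p, hp, c, hc⟩ := ih w
      obtain ⟨v, d, hd⟩ := hres c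
      refine ⟨p + v • ϖ ^ n, add_mem (Submodule.span_mono ?_ hp)
        (Submodule.smul_mem _ v (Submodule.subset_span ⟨Fin.last n, by simp⟩)), d, ?_⟩
      · rintro _ ⟨i, rfl⟩
        exact ⟨i.castSucc, by simp⟩
      · rw [Algebra.smul_def, pow_succ]
        linear_combination hc + ϖ ^ n * hd
  let N := Submodule.span V (Set.range fun i : Fin ε => ϖ ^ (i : ℕ))
  have htop : ⊤ ≤ N := by
    refine Submodule.le_of_le_smul_of_le_jacobson_bot (I := maximalIdeal V) Module.Finite.fg_top
      (maximalIdeal_le_jacobson _) fun w _ => ?_
    obtain ⟨p, hp, hd⟩ := hspan ε w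
    obtain ⟨c, hc⟩ := dvd_trans hε.dvd hd
    refine Submodule.mem_sup.mpr ⟨p, hp, π • c, Submodule.smul_mem_smul (hπ.maximalIdeal_eq ▸
      Ideal.mem_span_singleton_self π) trivial, ?_⟩
    rw [Algebra.smul_def]
    linear_combination -hc
  rw [← IsIntegralClosure.rank V K E W]
  refine le_trans ?_ hεe
  rw [← finrank_top V W, ← top_le_iff.mp htop]
  exact (finrank_range_le_card _).trans (Fintype.card_fin ε).le

/-- **Finite algebraic closure**: let `V` be a henselian DVR with algebraically closed residue field, of
characteristic zero, with fraction field `K`, and `B` a Noetherian local `V`-algebra dominating `V`. In every field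
`F` generated as a field by the image of `B`, the algebraic closure of `K` is finite over `K`. -/
theorem finite_algebraicClosure (V : Type u) [CommRing V] [IsDomain V] [IsDiscreteValuationRing V]
    [HenselianLocalRing V] [IsAlgClosed (ResidueField V)] (K : Type u) [Field K] [Algebra V K] [IsFractionRing V K]
    [PerfectField K]
    (B : Type u) [CommRing B] [IsLocalRing B] [IsNoetherianRing B] [Algebra V B]
    (hB : maximalIdeal V ≤ (maximalIdeal B).comap (algebraMap V B))
    (F : Type u) [Field F] [Algebra B F] [Algebra K F] [Algebra V F] [IsScalarTower V B F] [IsScalarTower V K F]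
    (hs : Subfield.closure (Set.range (algebraMap B F)) = ⊤) :
    FiniteDimensional K (algebraicClosure K F) := by
  classical
  obtain ⟨π, hπ⟩ := IsDiscreteValuationRing.exists_irreducible V
  have hπF : algebraMap V F π ≠ 0 := by
    rw [IsScalarTower.algebraMap_apply V K F, ne_eq, map_eq_zero]
    exact fun h0 => hπ.ne_zero (IsFractionRing.injective V K (h0.trans (map_zero _).symm))
  have hπB : algebraMap V B π ∈ maximalIdeal B := hB hπ.not_isUnit
  obtain ⟨O, hO, hBO, hval⟩ := DvrDomLib.exists_dvr_dominating (L := F) (maximalIdeal B)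
    (le_maximalIdeal (RingHom.ker_ne_top _)) ⟨_, hπB, by rwa [← IsScalarTower.algebraMap_apply]⟩ ∅
    (by rwa [Finset.coe_empty, Set.union_empty])
  let g : V →+* O := ((algebraMap B F).codRestrict O.toSubring hBO).comp (algebraMap V B)
  have hg : ∀ v, (g v : F) = algebraMap V F v := fun v => (IsScalarTower.algebraMap_apply V B F v).symm
  have hgπ0 : g π ≠ 0 := fun h0 => hπF (by rw [← hg, h0]; rfl)
  obtain ⟨t, ht⟩ := IsDiscreteValuationRing.exists_irreducible O
  obtain ⟨e, hte⟩ := IsDiscreteValuationRing.associated_pow_irreducible hgπ0 ht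
  have he : e ≠ 0 := fun h0 => by
    rw [h0, pow_zero, associated_one_iff_isUnit] at hte
    exact ((hval (algebraMap V B π)).mpr hπB).ne ((O.valuation_eq_one_iff _).mp hte)
  refine Module.finite_def.mpr ?_
  rw [← Module.finite_def, ← Module.rank_lt_aleph0_iff]
  refine lt_of_le_of_lt (rank_le (n := e) fun s hs => ?_) Cardinal.natCast_lt_aleph0
  let E : IntermediateField K F := IntermediateField.adjoin K ((Subtype.val '' (s : Set (algebraicClosure K F))))
  haveI : Finite (Subtype.val '' (s : Set (algebraicClosure K F))) := (s.finite_toSet.image _).to_subtype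
  haveI : FiniteDimensional K E := IntermediateField.finiteDimensional_adjoin fun x hx => by
    obtain ⟨y, -, rfl⟩ := hx
    exact mem_algebraicClosure_iff'.mp y.2
  have hle := finrank_le_of_dvr V K E O (E.val.restrictScalars V) g hg π hπ ht hte he
  have hind : LinearIndependent K (fun i : s => (⟨((i : algebraicClosure K F) : F),
      IntermediateField.subset_adjoin _ _ ⟨_, i.2, rfl⟩⟩ : E)) :=
    LinearIndependent.of_comp E.val.toLinearMap (hs.map' (algebraicClosure K F).val.toLinearMap
      (LinearMap.ker_eq_bot.mpr Subtype.val_injective))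
  exact (Fintype.card_coe s ▸ hind.fintype_card_le_finrank).trans hle

end MilnorFibLib
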