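import Groth.Agent.MilnorFibLib.Tensor
import Groth.Agent.MilnorFibLib.Bound
import Mathlib.RingTheory.Localization.FractionRing
import Mathlib.FieldTheory.Perfect

/-!
# Noetherianity of the algebraic Milnor fibre

For a henselian DVR `V` of characteristic zero with algebraically closed residue field, `L` an algebraic closure of
its fraction field and `B` a Noetherian local `V`-algebra dominating `V`, the ring `L ⊗_V B` is Noetherian.
-/

set_option autoImplicit false
set_option linter.style.haveILetI false

universe u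

open TensorProduct IsLocalRing

noncomputable section

namespace MilnorFibLib

theorem exists_smul_eq_tmul (V K B : Type u) [CommRing V] [CommRing K] [Algebra V K]
    [IsLocalization (nonZeroDivisors V) K] [CommRing B] [Algebra V B] (z : K ⊗[V] B) :
    ∃ v ∈ nonZeroDivisors V, ∃ b : B, (algebraMap V K v ⊗ₜ 1) * z = 1 ⊗ₜ b := by
  induction z using TensorProduct.induction_on with
  | zero => exact ⟨1, one_mem _, 0, by simp⟩
  | add x y hx hy =>
    obtain ⟨v, hv, b, hb⟩ := hx; obtain ⟨w, hw, c, hc⟩ := hy
    refine ⟨v * w, mul_mem hv hw, algebraMap V B w * b + algebraMap V B v * c, ?_⟩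
    have h : ∀ r : V, (algebraMap V K r ⊗ₜ[V] (1 : B)) = 1 ⊗ₜ algebraMap V B r := fun r => by
      rw [Algebra.algebraMap_eq_smul_one, Algebra.algebraMap_eq_smul_one, TensorProduct.smul_tmul]
    rw [map_mul, show (algebraMap V K v * algebraMap V K w) ⊗ₜ[V] (1 : B)
      = (algebraMap V K v ⊗ₜ 1) * (algebraMap V K w ⊗ₜ 1) by simp, TensorProduct.tmul_add,
      show (1 : K) ⊗ₜ[V] (algebraMap V B w * b) = (1 ⊗ₜ algebraMap V B w) * (1 ⊗ₜ b) by simp,
      show (1 : K) ⊗ₜ[V] (algebraMap V B v * c) = (1 ⊗ₜ algebraMap V B v) * (1 ⊗ₜ c) by simp, ← h, ← h,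
      ← hb, ← hc]
    ring
  | tmul k b =>
    obtain ⟨⟨a, s⟩, hs⟩ := IsLocalization.surj (nonZeroDivisors V) k
    refine ⟨s, s.2, a • b, ?_⟩
    rw [Algebra.TensorProduct.tmul_mul_tmul, one_mul, mul_comm, hs, Algebra.algebraMap_eq_smul_one,
      TensorProduct.smul_tmul]

theorem isNoetherianRing_baseChange (V K B : Type u) [CommRing V] [CommRing K] [Algebra V K]
    [IsLocalization (nonZeroDivisors V) K] [CommRing B] [IsNoetherianRing B] [Algebra V B] :
    IsNoetherianRing (K ⊗[V] B) := by
  rw [isNoetherianRing_iff_ideal_fg]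
  intro I
  let i : B →+* K ⊗[V] B := (Algebra.TensorProduct.includeRight : B →ₐ[V] K ⊗[V] B).toRingHom
  suffices h : I = (I.comap i).map i by
    rw [h]; exact Ideal.FG.map ((isNoetherianRing_iff_ideal_fg B).mp inferInstance _) i
  refine le_antisymm (fun z hz => ?_) Ideal.map_comap_le
  obtain ⟨v, hv, b, hb⟩ := exists_smul_eq_tmul V K B z
  obtain ⟨u, hu⟩ := (IsLocalization.map_units K (⟨v, hv⟩ : nonZeroDivisors V))
  have hu' : algebraMap V K v = u := hu.symm
  have hz' : z = ((↑u⁻¹ : K) ⊗ₜ[V] (1 : B)) * i b := by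
    show z = _ * ((1 : K) ⊗ₜ[V] b)
    rw [← hb, ← mul_assoc, Algebra.TensorProduct.tmul_mul_tmul, hu', Units.inv_mul, mul_one,
      ← Algebra.TensorProduct.one_def, one_mul]
  rw [hz']
  exact Ideal.mul_mem_left _ _ (Ideal.mem_map_of_mem i (show b ∈ I.comap i from (show i b ∈ I by
    rw [show i b = 1 ⊗ₜ b from rfl, ← hb]; exact I.mul_mem_left _ hz)))

/-- **The algebraic Milnor fibre is Noetherian.** -/
theorem isNoetherianRing_milnorFibre (V : Type u) [CommRing V] [IsDomain V] [IsDiscreteValuationRing V]
    [HenselianLocalRing V] [IsSepClosed (ResidueField V)] [PerfectField (ResidueField V)] [CharZero V]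
    (L : Type u) [Field L] [IsAlgClosed L] [Algebra V L] [FaithfulSMul V L] [Algebra.IsAlgebraic V L]
    (B : Type u) [CommRing B] [IsLocalRing B] [IsNoetherianRing B] [Algebra V B]
    (hB : maximalIdeal V ≤ (maximalIdeal B).comap (algebraMap V B)) :
    IsNoetherianRing (L ⊗[V] B) := by
  let K := FractionRing V
  letI : Algebra K L := FractionRing.liftAlgebra V L
  haveI : Algebra.IsAlgebraic K L := Algebra.IsAlgebraic.extendScalars (IsFractionRing.injective V K)
  haveI : IsAlgClosed (ResidueField V) := .of_exists_root _ fun p _ hp =>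
    IsSepClosed.exists_root p (Polynomial.natDegree_pos_iff_degree_pos.mp hp.natDegree_pos).ne'
      (PerfectField.separable_of_irreducible hp)
  haveI : CharZero K := charZero_of_injective_algebraMap (IsFractionRing.injective V K)
  haveI : IsNoetherianRing (K ⊗[V] B) := isNoetherianRing_baseChange V K B
  haveI : IsNoetherianRing (L ⊗[K] (K ⊗[V] B)) := by
    refine isNoetherianRing_tensor K L (K ⊗[V] B) fun P _ => ?_
    let i : B →+* P.ResidueField := (algebraMap (K ⊗[V] B) P.ResidueField).comp
      (Algebra.TensorProduct.includeRight : B →ₐ[V] K ⊗[V] B).toRingHom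
    letI : Algebra B P.ResidueField := i.toAlgebra
    haveI : IsScalarTower V B P.ResidueField := IsScalarTower.of_algebraMap_eq fun v => by
      show _ = algebraMap (K ⊗[V] B) P.ResidueField
        ((Algebra.TensorProduct.includeRight : B →ₐ[V] K ⊗[V] B) (algebraMap V B v))
      rw [AlgHom.commutes, ← IsScalarTower.algebraMap_apply]
    refine finite_algebraicClosure V K B hB P.ResidueField (eq_top_iff.mpr fun x _ => ?_)
    let S := Subfield.closure (Set.range (algebraMap B P.ResidueField))
    have hK : ∀ k : K, algebraMap K P.ResidueField k ∈ S := fun k => by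
      obtain ⟨a, b, -, rfl⟩ := IsFractionRing.div_surjective V k
      rw [map_div₀, ← IsScalarTower.algebraMap_apply, ← IsScalarTower.algebraMap_apply,
        IsScalarTower.algebraMap_apply V B P.ResidueField, IsScalarTower.algebraMap_apply V B P.ResidueField]
      exact div_mem (Subfield.subset_closure ⟨_, rfl⟩) (Subfield.subset_closure ⟨_, rfl⟩)
    have hR : ∀ z : K ⊗[V] B, algebraMap (K ⊗[V] B) P.ResidueField z ∈ S := fun z => by
      induction z using TensorProduct.induction_on with
      | zero => simp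
      | add a b ha hb => rw [map_add]; exact add_mem ha hb
      | tmul k b =>
        rw [show k ⊗ₜ[V] b = (algebraMap K (K ⊗[V] B) k) * (1 ⊗ₜ b) by simp, map_mul,
          ← IsScalarTower.algebraMap_apply]
        exact mul_mem (hK k) (Subfield.subset_closure ⟨b, rfl⟩)
    obtain ⟨a, d, -, rfl⟩ := IsFractionRing.div_surjective ((K ⊗[V] B) ⧸ P) x
    obtain ⟨a, rfl⟩ := Ideal.Quotient.mk_surjective a
    obtain ⟨d, rfl⟩ := Ideal.Quotient.mk_surjective d
    exact div_mem (hR a) (hR d)
  exact isNoetherianRing_of_ringEquiv (L ⊗[K] (K ⊗[V] B))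
    (Algebra.TensorProduct.cancelBaseChange V K K L B).toRingEquiv

end MilnorFibLib
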