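import Groth.Agent.ConnBC.Tensor
import Mathlib.RingTheory.Noetherian.OfPrime
import Mathlib.RingTheory.LocalRing.ResidueField.Ideal
import Mathlib.FieldTheory.Perfect

/-!
# Noetherianity of base change along an algebraic closure

If `R` is a Noetherian algebra over a perfect field `K` such that `K` has finite algebraic closure in every residue
field of `R`, then `L ⊗_K R` is Noetherian for every algebraically closed algebraic extension `L` of `K`.
-/

set_option autoImplicit false
set_option linter.style.haveILetI false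

universe u

open TensorProduct

noncomputable section

namespace MilnorFibLib

theorem isField_tensor_finite {E F L : Type u} [Field E] [Field F] [Field L] [Algebra E F] [Algebra E L]
    [FiniteDimensional E L] [Algebra.IsSeparable E L] (hk : algebraicClosure E F = ⊥) : IsField (F ⊗[E] L) := by
  obtain ⟨α, hα⟩ := Field.exists_primitive_element E L
  have hint : IsIntegral E α := Algebra.IsIntegral.isIntegral α
  haveI : Fact (Irreducible ((minpoly E α).map (algebraMap E F))) :=
    ⟨ConnBC.irreducible_map hk (minpoly.monic hint) (minpoly.irreducible hint)⟩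
  let ψ : AdjoinRoot ((minpoly E α).map (algebraMap E F)) →+* F ⊗[E] L :=
    AdjoinRoot.lift Algebra.TensorProduct.includeLeftRingHom (1 ⊗ₜ α) (by
      rw [Polynomial.eval₂_map, show (Algebra.TensorProduct.includeLeftRingHom : F →+* F ⊗[E] L).comp (algebraMap E F) =
        algebraMap E (F ⊗[E] L) from rfl, ← Polynomial.aeval_def,
        show (1 : F) ⊗ₜ[E] α = (Algebra.TensorProduct.includeRight : L →ₐ[E] F ⊗[E] L) α from rfl,
        Polynomial.aeval_algHom_apply, minpoly.aeval, map_zero])
  have hsurj : Function.Surjective ψ := by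
    intro z
    induction z using TensorProduct.induction_on with
    | zero => exact ⟨0, map_zero _⟩
    | add x y hx hy =>
      obtain ⟨a, rfl⟩ := hx; obtain ⟨b, rfl⟩ := hy
      exact ⟨a + b, map_add _ _ _⟩
    | tmul a l =>
      have hl : l ∈ Algebra.adjoin E {α} := by
        rw [← IntermediateField.adjoin_simple_toSubalgebra_of_isAlgebraic hint.isAlgebraic, hα]
        trivial
      have : (1 : F) ⊗ₜ[E] l ∈ ψ.range := by
        induction hl using Algebra.adjoin_induction with
        | mem x hx =>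
          rw [Set.mem_singleton_iff.mp hx]
          exact ⟨AdjoinRoot.root ((minpoly E α).map (algebraMap E F)), AdjoinRoot.lift_root _⟩
        | algebraMap r =>
          refine ⟨AdjoinRoot.of _ (algebraMap E F r), ?_⟩
          rw [AdjoinRoot.lift_of]
          simp [Algebra.algebraMap_eq_smul_one, TensorProduct.smul_tmul]
        | add x y _ _ hx hy => rw [TensorProduct.tmul_add]; exact add_mem hx hy
        | mul x y _ _ hx hy =>
          rw [show (1 : F) ⊗ₜ[E] (x * y) = (1 ⊗ₜ x) * (1 ⊗ₜ y) by simp]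
          exact mul_mem hx hy
      obtain ⟨c, hc⟩ := this
      exact ⟨AdjoinRoot.of _ a * c, by rw [map_mul, AdjoinRoot.lift_of, hc]; simp⟩
  haveI : Nontrivial (F ⊗[E] L) :=
    Algebra.TensorProduct.nontrivial_of_algebraMap_injective_of_flat_left (R := E) (A := F) (B := L) (algebraMap E L).injective
  exact MulEquiv.isField (Field.toIsField (AdjoinRoot ((minpoly E α).map (algebraMap E F))))
    (RingEquiv.ofBijective ψ ⟨ψ.injective, hsurj⟩).symm.toMulEquiv

theorem isField_tensor {E F L : Type u} [Field E] [Field F] [Field L] [Algebra E F] [Algebra E L]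
    [Algebra.IsAlgebraic E L] [Algebra.IsSeparable E L] (hk : algebraicClosure E F = ⊥) :
    IsField (L ⊗[E] F) := by
  haveI : Nontrivial (F ⊗[E] L) :=
    Algebra.TensorProduct.nontrivial_of_algebraMap_injective_of_flat_left (R := E) (A := F) (B := L) (algebraMap E L).injective
  refine MulEquiv.isField (A := L ⊗[E] F) (B := F ⊗[E] L) ⟨exists_pair_ne _, mul_comm, fun {x} hx => ?_⟩
    (Algebra.TensorProduct.comm E L F).toMulEquiv
  classical
  obtain ⟨S, rfl⟩ := TensorProduct.exists_finset x
  let L₀ := IntermediateField.adjoin E ((S.image Prod.snd : Finset L) : Set L)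
  haveI : FiniteDimensional E L₀ :=
    IntermediateField.finiteDimensional_adjoin fun y _ => Algebra.IsIntegral.isIntegral y
  let m : F ⊗[E] L₀ →ₐ[F] F ⊗[E] L := Algebra.TensorProduct.map (AlgHom.id F F) L₀.val
  let x₀ : F ⊗[E] L₀ := ∑ i ∈ S.attach, i.1.1 ⊗ₜ ⟨i.1.2, IntermediateField.subset_adjoin _ _
    (Finset.mem_image_of_mem _ i.2)⟩
  have hx₀ : m x₀ = ∑ i ∈ S, i.1 ⊗ₜ[E] i.2 := by
    simp only [x₀, m, map_sum, Algebra.TensorProduct.map_tmul, AlgHom.id_apply]
    exact S.sum_attach fun i => i.1 ⊗ₜ[E] i.2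
  obtain ⟨y, hy⟩ := (isField_tensor_finite (L := L₀) hk).mul_inv_cancel (a := x₀) (fun h => hx (by rw [← hx₀, h, map_zero]))
  exact ⟨m y, ((congrArg (· * m y) hx₀.symm).trans (m.map_mul' x₀ y).symm).trans ((congrArg m hy).trans m.map_one')⟩

theorem fg_of_isPrime_field {K L F : Type u} [Field K] [PerfectField K] [Field L] [Algebra K L] [IsAlgClosed L]
    [Algebra.IsAlgebraic K L] [Field F] [Algebra K F] [FiniteDimensional K (algebraicClosure K F)]
    (q : Ideal (L ⊗[K] F)) [q.IsPrime] : q.FG := by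
  classical
  let E := algebraicClosure K F
  let π : L ⊗[K] F →ₐ[K] (L ⊗[K] F) ⧸ q := Ideal.Quotient.mkₐ K q
  let ιL : L →ₐ[K] (L ⊗[K] F) ⧸ q := π.comp (Algebra.TensorProduct.includeLeft (R := K) (S := K))
  let gF : F →ₐ[K] (L ⊗[K] F) ⧸ q := π.comp Algebra.TensorProduct.includeRight
  have hinj : Function.Injective ιL := ιL.toRingHom.injective
  have hrange : ∀ e : E, gF (e : F) ∈ ιL.range := by
    intro e
    have hint : IsIntegral K (e : F) := mem_algebraicClosure_iff'.mp e.2
    let p := minpoly K (e : F)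
    have h0 : Polynomial.eval₂ ιL.toRingHom (gF (e : F)) (p.map (algebraMap K L)) = 0 := by
      rw [Polynomial.eval₂_map, show ιL.toRingHom.comp (algebraMap K L) = algebraMap K _ from ιL.comp_algebraMap,
        ← Polynomial.aeval_def, Polynomial.aeval_algHom_apply, minpoly.aeval, map_zero]
    rw [(IsAlgClosed.splits (p.map (algebraMap K L))).eq_prod_roots_of_monic ((minpoly.monic hint).map _),
      Polynomial.eval₂_multiset_prod, Multiset.map_map] at h0
    obtain ⟨r, -, hr⟩ := Multiset.mem_map.mp (Multiset.prod_eq_zero_iff.mp h0)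
    simp only [Function.comp_apply, Polynomial.eval₂_sub, Polynomial.eval₂_X, Polynomial.eval₂_C] at hr
    exact ⟨r, (sub_eq_zero.mp hr).symm⟩
  let σ : E →ₐ[K] L :=
    (AlgEquiv.ofInjective ιL hinj).symm.toAlgHom.comp ((gF.comp E.val).codRestrict ιL.range hrange)
  have hσ : ∀ e : E, ιL (σ e) = gF (e : F) := fun e => by
    have := (AlgEquiv.ofInjective ιL hinj).apply_symm_apply ⟨gF (e : F), hrange e⟩
    exact congrArg Subtype.val this
  let b := Module.finBasis K E
  let rel : E →ₗ[K] L ⊗[K] F :=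
    { toFun := fun e => σ e ⊗ₜ 1 - 1 ⊗ₜ (e : F)
      map_add' := fun x y => by
        simp only [map_add, TensorProduct.add_tmul, IntermediateField.coe_add, TensorProduct.tmul_add]
        abel
      map_smul' := fun c x => by
        simp [smul_sub, TensorProduct.smul_tmul'] }
  let I : Ideal (L ⊗[K] F) := Ideal.span ((Finset.univ.image fun i => rel (b i) : Finset _) : Set _)
  have hrel : ∀ e : E, rel e ∈ I := fun e => by
    rw [← b.sum_repr e, map_sum]
    refine sum_mem fun i _ => ?_
    rw [map_smul]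
    exact Submodule.smul_of_tower_mem _ _ (Ideal.subset_span (Finset.mem_image_of_mem _ (Finset.mem_univ i)))
  have hIq : I ≤ q := by
    rw [Ideal.span_le]
    intro z hz
    rw [Finset.coe_image] at hz
    obtain ⟨i, -, rfl⟩ := hz
    exact Ideal.Quotient.eq_zero_iff_mem.mp (show π (σ (b i) ⊗ₜ 1 - 1 ⊗ₜ (b i : F)) = 0 by
      rw [map_sub, sub_eq_zero]; exact hσ (b i))
  letI algEL : Algebra E L := σ.toRingHom.toAlgebra
  haveI : IsScalarTower K E L := IsScalarTower.of_algebraMap_eq fun c => (σ.commutes c).symm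
  haveI : Algebra.IsAlgebraic E L := Algebra.IsAlgebraic.tower_top (K := K) E
  haveI : PerfectField E := Algebra.IsAlgebraic.perfectField (K := K)
  have hk : algebraicClosure E F = ⊥ := by
    rw [eq_bot_iff]
    intro x hx
    rw [IntermediateField.mem_bot]
    have hE : IsIntegral E x := mem_algebraicClosure_iff'.mp hx
    exact ⟨⟨x, mem_algebraicClosure_iff'.mpr (isIntegral_trans x hE)⟩, rfl⟩
  let Q := (L ⊗[K] F) ⧸ I
  let fF : F →ₐ[E] Q :=
    { ((Ideal.Quotient.mk I).comp (Algebra.TensorProduct.includeRight (R := K) (A := L)).toRingHom) with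
      commutes' := fun e => ((Ideal.Quotient.eq (I := I)).mpr (hrel e)).symm }
  let Ψ : L ⊗[E] F →ₐ[L] Q := Algebra.TensorProduct.lift (Algebra.ofId L Q) fF fun _ _ => Commute.all _ _
  have hΨ : Function.Surjective Ψ := by
    intro z
    obtain ⟨z, rfl⟩ := Ideal.Quotient.mk_surjective z
    induction z using TensorProduct.induction_on with
    | zero => exact ⟨0, by simp⟩
    | add x y hx hy =>
      obtain ⟨a, ha⟩ := hx; obtain ⟨c, hc⟩ := hy
      exact ⟨a + c, by rw [map_add, ha, hc, map_add]⟩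
    | tmul l f =>
      refine ⟨l ⊗ₜ f, ?_⟩
      rw [Algebra.TensorProduct.lift_tmul]
      show Ideal.Quotient.mk I (l ⊗ₜ 1) * Ideal.Quotient.mk I (1 ⊗ₜ f) = _
      rw [← map_mul, Algebra.TensorProduct.tmul_mul_tmul, mul_one, one_mul]
  haveI : Nontrivial Q := Ideal.Quotient.nontrivial_iff.mpr fun h => ‹q.IsPrime›.ne_top (top_le_iff.mp (h ▸ hIq))
  letI := (isField_tensor (L := L) hk).toField
  have hbij : Function.Bijective Ψ := ⟨Ψ.toRingHom.injective, hΨ⟩
  haveI : I.IsMaximal := Ideal.Quotient.maximal_of_isField I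
    (MulEquiv.isField (isField_tensor (L := L) hk) (RingEquiv.ofBijective Ψ hbij).symm.toMulEquiv)
  rw [← Ideal.IsMaximal.eq_of_le ‹I.IsMaximal› ‹q.IsPrime›.ne_top hIq]
  exact ⟨_, rfl⟩

/-- **Base change along an algebraic closure preserves Noetherianity** when the algebraic closures of `K` in the
residue fields are finite. -/
theorem isNoetherianRing_tensor (K L R : Type u) [Field K] [PerfectField K] [Field L] [Algebra K L] [IsAlgClosed L]
    [Algebra.IsAlgebraic K L] [CommRing R] [IsNoetherianRing R] [Algebra K R]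
    (h : ∀ (P : Ideal R) [P.IsPrime], FiniteDimensional K (algebraicClosure K P.ResidueField)) :
    IsNoetherianRing (L ⊗[K] R) := by
  classical
  refine IsNoetherianRing.of_prime fun Q hQ => ?_
  let iR : R →ₐ[K] L ⊗[K] R := Algebra.TensorProduct.includeRight
  let P : Ideal R := Q.comap iR
  haveI : P.IsPrime := Ideal.comap_isPrime iR Q
  haveI := h P
  let F := P.ResidueField
  let fP : R →ₐ[K] F := IsScalarTower.toAlgHom K R F
  let φ : L ⊗[K] R →ₐ[L] L ⊗[K] F := Algebra.TensorProduct.map (AlgHom.id L L) fP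
  let PS : Ideal (L ⊗[K] R) := P.map iR
  have hkerφ : ∀ z, φ z = 0 → z ∈ PS := by
    intro z hz
    let fl : R →ₗ[K] F := fP.toLinearMap
    have hex : Function.Exact (LinearMap.ker fl).subtype fl := LinearMap.exact_subtype_ker_map fl
    obtain ⟨w, hw⟩ := (Module.Flat.lTensor_exact L hex z).mp (show fl.lTensor L z = 0 from hz)
    rw [← hw]
    clear hw
    induction w using TensorProduct.induction_on with
    | zero => simp
    | add x y hx hy => rw [map_add]; exact add_mem hx hy
    | tmul l r =>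
      rw [LinearMap.lTensor_tmul, Submodule.subtype_apply]
      have hr : (r : R) ∈ P := Ideal.algebraMap_residueField_eq_zero.mp r.2
      rw [show l ⊗ₜ[K] (r : R) = (l ⊗ₜ 1) * iR (r : R) by simp [iR]]
      exact Ideal.mul_mem_left _ _ (Ideal.mem_map_of_mem _ hr)
  have hPQ : PS ≤ Q := Ideal.map_comap_le
  have hclear : ∀ z : L ⊗[K] F, ∃ s ∉ P, ∃ y, φ y = φ (iR s) * z := by
    intro z
    induction z using TensorProduct.induction_on with
    | zero => exact ⟨1, P.primeCompl.one_mem, 0, by simp⟩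
    | add x y hx hy =>
      obtain ⟨s, hs, a, ha⟩ := hx; obtain ⟨t, ht, c, hc⟩ := hy
      refine ⟨s * t, P.primeCompl.mul_mem hs ht, iR t * a + iR s * c, ?_⟩
      rw [map_add, map_mul, map_mul, ha, hc, map_mul, map_mul]
      ring
    | tmul l f =>
      obtain ⟨a, d, hd, rfl⟩ := IsFractionRing.div_surjective (R ⧸ P) f
      obtain ⟨a, rfl⟩ := Ideal.Quotient.mk_surjective a
      obtain ⟨d, rfl⟩ := Ideal.Quotient.mk_surjective d
      have hdP : d ∉ P := fun hh => nonZeroDivisors.ne_zero hd (Ideal.Quotient.eq_zero_iff_mem.mpr hh)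
      refine ⟨d, hdP, l ⊗ₜ a, ?_⟩
      have hne : algebraMap R F d ≠ 0 := fun hh => hdP (Ideal.algebraMap_residueField_eq_zero.mp hh)
      simp only [φ, iR, Algebra.TensorProduct.map_tmul, Algebra.TensorProduct.includeRight_apply, AlgHom.id_apply,
        Algebra.TensorProduct.tmul_mul_tmul, one_mul]
      congr 1
      show algebraMap R F a = algebraMap R F d * (algebraMap R F a / algebraMap R F d)
      rw [mul_div_cancel₀ _ hne]
  let q : Ideal (L ⊗[K] F) :=
    { carrier := {z | ∃ s ∉ P, ∃ y ∈ Q, φ y = φ (iR s) * z}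
      zero_mem' := ⟨1, P.primeCompl.one_mem, 0, Q.zero_mem, by simp⟩
      add_mem' := by
        rintro x y ⟨s, hs, a, ha', ha⟩ ⟨t, ht, c, hc', hc⟩
        refine ⟨s * t, P.primeCompl.mul_mem hs ht, iR t * a + iR s * c,
          add_mem (Q.mul_mem_left _ ha') (Q.mul_mem_left _ hc'), ?_⟩
        rw [map_add, map_mul, map_mul, ha, hc, map_mul, map_mul]
        ring
      smul_mem' := by
        rintro r x ⟨s, hs, a, ha', ha⟩
        obtain ⟨t, ht, c, hc⟩ := hclear r
        refine ⟨t * s, P.primeCompl.mul_mem ht hs, c * a, Q.mul_mem_left _ ha', ?_⟩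
        rw [map_mul, hc, ha, smul_eq_mul, map_mul, map_mul]
        ring }
  have hqcomap : ∀ y, φ y ∈ q ↔ y ∈ Q := by
    refine fun y => ⟨?_, fun hy => ⟨1, P.primeCompl.one_mem, y, hy, by simp⟩⟩
    rintro ⟨s, hs, a, ha', ha⟩
    rw [← map_mul, ← sub_eq_zero, ← map_sub] at ha
    have := sub_mem ha' (hPQ (hkerφ _ ha))
    rw [sub_sub_cancel] at this
    exact (hQ.mem_or_mem this).resolve_left fun hh => hs hh
  haveI : q.IsPrime := by
    refine ⟨(Ideal.ne_top_iff_one _).mpr fun h1 => hQ.ne_top ((Ideal.eq_top_iff_one _).mpr ?_), ?_⟩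
    · rw [← hqcomap, map_one]; exact h1
    · intro x y hxy
      obtain ⟨s, hs, a, ha⟩ := hclear x
      obtain ⟨t, ht, c, hc⟩ := hclear y
      have hac : a * c ∈ Q := (hqcomap _).mp (by
        rw [map_mul, ha, hc, mul_mul_mul_comm]
        exact q.mul_mem_left _ hxy)
      rcases hQ.mem_or_mem hac with h | h
      · exact Or.inl ⟨s, hs, a, h, ha⟩
      · exact Or.inr ⟨t, ht, c, h, hc⟩
  obtain ⟨G, hG⟩ := fg_of_isPrime_field q
  have hGmem : ∀ g : G, ∃ s ∉ P, ∃ y ∈ Q, φ y = φ (iR s) * (g : L ⊗[K] F) := fun g =>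
    hG.le (Ideal.subset_span g.2)
  choose sG hsG yG hyG hφG using hGmem
  let Q₁ : Ideal (L ⊗[K] R) := PS ⊔ Ideal.span (Set.range yG)
  have hQ₁ : ∀ x ∈ Q, ∃ s ∉ P, iR s * x ∈ Q₁ := by
    intro x hx
    have h1 : φ x ∈ Ideal.span (G : Set (L ⊗[K] F)) := hG.ge ((hqcomap x).mpr hx)
    suffices ∀ z ∈ Ideal.span (G : Set (L ⊗[K] F)), ∃ s ∉ P, ∃ y ∈ Ideal.span (Set.range yG), φ y = φ (iR s) * z by
      obtain ⟨s, hs, y, hy, he⟩ := this _ h1
      refine ⟨s, hs, ?_⟩
      rw [← map_mul, eq_comm, ← sub_eq_zero, ← map_sub] at he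
      have := add_mem (Ideal.mem_sup_left (T := Ideal.span (Set.range yG)) (hkerφ _ he)) (Ideal.mem_sup_right hy)
      rwa [sub_add_cancel] at this
    intro z hz
    induction hz using Submodule.span_induction with
    | mem g hg => exact ⟨sG ⟨g, hg⟩, hsG _, yG ⟨g, hg⟩, Ideal.subset_span ⟨_, rfl⟩, hφG _⟩
    | zero => exact ⟨1, P.primeCompl.one_mem, 0, zero_mem _, by simp⟩
    | add x y _ _ hx hy =>
      obtain ⟨s, hs, a, ha', ha⟩ := hx; obtain ⟨t, ht, c, hc', hc⟩ := hy
      refine ⟨s * t, P.primeCompl.mul_mem hs ht, iR t * a + iR s * c,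
        add_mem (Ideal.mul_mem_left _ _ ha') (Ideal.mul_mem_left _ _ hc'), ?_⟩
      rw [map_add, map_mul, map_mul, ha, hc, map_mul, map_mul]
      ring
    | smul r x _ hx =>
      obtain ⟨s, hs, a, ha', ha⟩ := hx
      obtain ⟨t, ht, c, hc⟩ := hclear r
      refine ⟨t * s, P.primeCompl.mul_mem ht hs, c * a, Ideal.mul_mem_left _ _ ha', ?_⟩
      rw [map_mul, hc, ha, smul_eq_mul, map_mul, map_mul]
      ring
  choose Sy hSy using fun g : G => TensorProduct.exists_finset (yG g)
  let coeffs : Finset L := Finset.univ.biUnion fun g : G => (Sy g).image Prod.fst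
  let L₀ := IntermediateField.adjoin K (coeffs : Set L)
  haveI : FiniteDimensional K L₀ :=
    IntermediateField.finiteDimensional_adjoin fun y _ => Algebra.IsIntegral.isIntegral y
  let T := L₀ ⊗[K] R
  haveI : IsNoetherianRing (R ⊗[K] L₀) := IsNoetherianRing.of_finite R (R ⊗[K] L₀)
  haveI : IsNoetherianRing T := isNoetherianRing_of_ringEquiv _ (Algebra.TensorProduct.comm K R L₀).toRingEquiv
  let ι : T →ₐ[K] L ⊗[K] R := Algebra.TensorProduct.map L₀.val (AlgHom.id K R)
  let Q₀ : Ideal T := Q.comap ι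
  haveI : Q₀.IsPrime := Ideal.comap_isPrime ι Q
  let J : Ideal (L ⊗[K] R) := Q₀.map ι
  have hJ : J.FG := Ideal.FG.map (IsNoetherian.noetherian Q₀) ι.toRingHom
  suffices Q = J by rw [this]; exact hJ
  have hιt : ∀ (l : L₀) (r : R), ι (l ⊗ₜ r) = (l : L) ⊗ₜ r := fun _ _ => rfl
  have hι : ∀ r : R, ι (1 ⊗ₜ r) = iR r := fun r => by rw [hιt]; rfl
  have hyJ : ∀ g, yG g ∈ J := fun g => by
    let t : T := ∑ i ∈ (Sy g).attach, (⟨i.1.1, IntermediateField.subset_adjoin _ _ (Finset.mem_biUnion.mpr
      ⟨g, Finset.mem_univ _, Finset.mem_image_of_mem _ i.2⟩)⟩ : L₀) ⊗ₜ i.1.2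
    have ht : ι t = yG g := by
      rw [hSy g]
      simp only [t, map_sum, hιt]
      exact (Sy g).sum_attach fun i => i.1 ⊗ₜ[K] i.2
    rw [← ht]
    exact Ideal.mem_map_of_mem _ (show ι t ∈ Q from ht.symm ▸ hyG g)
  have hQ₁J : Q₁ ≤ J := by
    refine sup_le ?_ (Ideal.span_le.mpr ?_)
    · rw [Ideal.map_le_iff_le_comap]
      intro r hr
      rw [Ideal.mem_comap, ← hι]
      exact Ideal.mem_map_of_mem _ (show ι (1 ⊗ₜ r) ∈ Q by rw [hι]; exact hr)
    · rintro _ ⟨g, rfl⟩; exact hyJ g
  let b := Module.Free.chooseBasis L₀ L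
  let Φ : _ → (L ⊗[K] R →ₗ[K] T) := fun i => ((b.coord i).restrictScalars K).rTensor R
  have hΦt : ∀ i (m : L) (r : R), Φ i (m ⊗ₜ r) = b.coord i m ⊗ₜ r := fun _ _ _ => rfl
  have hΦmul : ∀ i (t : T) x, Φ i (ι t * x) = t * Φ i x := by
    intro i t x
    induction t using TensorProduct.induction_on with
    | zero => simp
    | add t t' ht ht' => rw [map_add, add_mul, map_add, ht, ht', add_mul]
    | tmul l r =>
      induction x using TensorProduct.induction_on with
      | zero => simp
      | add y y' hy hy' => rw [mul_add, map_add, hy, hy', map_add, mul_add]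
      | tmul m r' =>
        rw [hιt, Algebra.TensorProduct.tmul_mul_tmul]
        rw [hΦt, hΦt]
        refine Eq.trans ?_ (Algebra.TensorProduct.tmul_mul_tmul (R := K) l (b.coord i m) r r').symm
        congr 1
        show b.coord i ((l : L) * m) = l * b.coord i m
        rw [show (l : L) * m = l • m from rfl, map_smul, smul_eq_mul]
  let G : L ⊗[K] R →ₗ[K] ((Module.Free.ChooseBasisIndex L₀ L) →₀ T) :=
    (TensorProduct.finsuppLeft K K L₀ R _).toLinearMap ∘ₗ ((b.repr.toLinearMap.restrictScalars K).rTensor R)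
  have hG' : ∀ x i, G x i = Φ i x := by
    intro x i
    induction x using TensorProduct.induction_on with
    | zero => simp
    | add y y' hy hy' => rw [map_add, Finsupp.add_apply, hy, hy', map_add]
    | tmul m r =>
      show TensorProduct.finsuppLeft K K L₀ R _ (b.repr m ⊗ₜ[K] r) i = (b.repr m i) ⊗ₜ[K] r
      rw [TensorProduct.finsuppLeft_apply_tmul_apply]
  have hexp : ∀ x, (G x).sum (fun i t => ι t * (b i ⊗ₜ 1)) = x := by
    intro x
    induction x using TensorProduct.induction_on with
    | zero => simp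
    | add y y' hy hy' =>
      rw [map_add, Finsupp.sum_add_index' (fun i => by simp) (fun i t t' => by rw [map_add, add_mul]), hy, hy']
    | tmul m r =>
      have e : G (m ⊗ₜ r) = (b.repr m).mapRange (fun l : L₀ => l ⊗ₜ[K] r) (TensorProduct.zero_tmul _ _) :=
        Finsupp.ext fun i => (hG' _ i).trans ((hΦt i m r).trans (by simp [Finsupp.mapRange_apply, Module.Basis.coord_apply]))
      rw [e, Finsupp.sum_mapRange_index (fun i => by simp)]
      conv_rhs => rw [← b.linearCombination_repr m, Finsupp.linearCombination_apply, Finsupp.sum,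
        TensorProduct.sum_tmul]
      refine Finset.sum_congr rfl fun i _ => ?_
      beta_reduce
      rw [hιt, Algebra.TensorProduct.tmul_mul_tmul, mul_one]
      rfl
  have hΦ : ∀ x, x ∈ J ↔ ∀ i, Φ i x ∈ Q₀ := by
    intro x
    constructor
    · intro hx
      suffices ∀ r i, Φ i (r * x) ∈ Q₀ from fun i => by simpa using this 1 i
      induction hx using Submodule.span_induction with
      | mem y hy =>
        obtain ⟨t, ht, rfl⟩ := hy
        intro r i
        rw [mul_comm]
        exact (hΦmul i t r).symm ▸ Q₀.mul_mem_right _ ht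
      | zero => simp
      | add y y' _ _ hy hy' => intro r i; rw [mul_add, map_add]; exact add_mem (hy r i) (hy' r i)
      | smul c y _ hy => intro r i; rw [smul_eq_mul, ← mul_assoc]; exact hy _ i
    · intro hx
      rw [← hexp x]
      refine sum_mem fun i _ => J.mul_mem_right _ (Ideal.mem_map_of_mem _ ?_)
      rw [hG']
      exact hx i
  refine le_antisymm (fun x hx => (hΦ x).mpr fun i => ?_) Ideal.map_comap_le
  obtain ⟨s, hs, hsx⟩ := hQ₁ x hx
  have := (hΦ _).mp (hQ₁J hsx) i
  rw [← hι, hΦmul] at this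
  exact (‹Q₀.IsPrime›.mem_or_mem this).resolve_left fun hh => hs (by
    have : iR s ∈ Q := hι s ▸ hh
    exact this)

end MilnorFibLib
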